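import Cfsg.Agent.H0.TC
set_option maxRecDepth 100000
namespace H0.TCM222
open H0
noncomputable def r0 : TC.WTr := (.node (.node (.node (.node (.node (.node (.leaf [1] 0 0 false) (.leaf [9] 8 0 false)) (.leaf [4] 4 0 false)) (.node (.leaf [3] 2 0 false) (.leaf [7] 6 0 false))) (.node (.node (.node (.leaf [0] 0 1 false) (.leaf [8] 8 1 false)) (.leaf [5] 5 0 false)) (.node (.leaf [2] 2 1 false) (.leaf [6] 6 1 false)))) (.node (.node (.node (.node (.leaf [1] 0 0 false) (.leaf [8, 8] 10 0 false)) (.leaf [7, 4, 7, 4, 7] 15 1 true)) (.node (.leaf [7, 2, 7, 3, 4, 7] 33 2 true) (.leaf [6, 6] 11 0 false))) (.node (.node (.node (.leaf [2, 6, 1, 5, 6] 32 2 true) (.leaf [9, 9] 10 0 true)) (.leaf [8, 6] 12 2 true)) (.node (.leaf [4, 7, 2, 7, 2, 7] 33 6 true) (.leaf [6] 6 1 false))))) (.node (.node (.node (.node (.node (.leaf [1] 0 0 false) (.leaf [2, 9, 7, 3, 4, 6, 4] 35 3 true)) (.leaf [3, 3] 24 2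 false)) (.node (.leaf [0, 6, 0, 0] 26 3 true) (.leaf [0, 9, 1, 4] 30 1 true))) (.node (.node (.node (.leaf [3, 3, 0, 2, 5] 25 1 true) (.leaf [4, 7, 4, 2, 6, 8, 3] 35 4 false)) (.leaf [1, 3, 3, 0, 2] 25 0 true)) (.node (.leaf [0, 7, 5, 0, 7] 32 2 false) (.leaf [4, 0, 8, 1] 30 3 false)))) (.node (.node (.node (.node (.leaf [1] 0 0 false) (.leaf [4, 9, 7, 4, 6] 21 5 false)) (.leaf [7, 4, 2, 6, 8, 3, 9] 35 5 false)) (.node (.leaf [2, 0, 5, 3, 1] 25 2 false) (.leaf [7] 6 0 false))) (.node (.node (.node (.leaf [4, 6, 0, 9] 30 4 true) (.leaf [8] 8 1 false)) (.leaf [7, 5, 7, 5, 7] 18 1 true)) (.node (.leaf [3, 0, 2, 5, 1] 25 2 true) (.leaf [6] 6 1 false))))))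
noncomputable def r1 : TC.WTr := (.node (.node (.node (.node (.node (.node (.leaf [6, 0, 0, 2] 26 4 true) (.leaf [1, 7, 4, 0] 30 1 false)) (.leaf [2, 2] 24 0 true)) (.node (.leaf [4, 2] 24 2 true) (.leaf [5, 8] 12 1 true))) (.node (.node (.node (.leaf [1, 1, 1, 1] 22 0 true) (.leaf [5, 7] 12 2 false)) (.leaf [3, 5, 4, 2] 31 1 false)) (.node (.leaf [3, 4] 24 0 false) (.leaf [7, 7] 11 0 true)))) (.node (.node (.node (.node (.leaf [1] 0 0 false) (.leaf [3, 9, 4, 7, 4, 2, 6] 35 2 false)) (.leaf [0, 8, 1, 7] 30 4 false)) (.node (.leaf [6, 2, 6, 3, 4, 6] 34 2 true) (.leaf [8, 4, 9, 7, 4] 21 4 false))) (.node (.node (.node (.leaf [3, 1, 1, 7] 26 0 false) (.leaf [7, 4, 6, 8, 4] 21 1 false)) (.leaf [7, 9] 12 0 false)) (.node (.leaf [5, 4, 2, 5] 31 2 false) (.leaf [6] 6 1 false))))) (.node (.node (.node (.node (.node (.leaf [1] 0 0 false) (.leaf [6, 5] 12 0 true)) (.leaf [8, 2, 9, 7, 3, 4, 6] 35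 2 true)) (.node (.leaf [2, 4] 24 1 true) (.leaf [1, 2, 6, 1, 5] 32 1 true))) (.node (.node (.node (.leaf [7, 1, 3, 1] 26 3 false) (.leaf [1, 4, 6, 0] 30 3 true)) (.leaf [4, 5, 4] 13 1 false)) (.node (.leaf [6, 3, 6, 4, 2, 6] 33 2 false) (.leaf [9, 5] 12 1 false)))) (.node (.node (.node (.node (.leaf [1] 0 0 false) (.leaf [9] 8 0 false)) (.leaf [6, 0, 9, 1] 30 0 true)) (.node (.leaf [3] 2 0 false) (.leaf [7] 6 0 false))) (.node (.node (.node (.leaf [5, 6, 1, 2, 6] 32 5 true) (.leaf [8] 8 1 false)) (.leaf [5] 5 0 false)) (.node (.leaf [2] 2 1 false) (.leaf [6] 6 1 false))))))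
noncomputable def tS : Tr := (.leaf (nat_lit 0xff9ff8e8a173b33e95bc58731ffd0350d49f4b4de9915bb8bbfe8016bb5b2a8564a9a7146affdd18e2f8b206e5c7a6cb129ffedd262c3a2a76eb0aed8b1dff1fa149217431c8e25da65dffe9a1f85cbc712e9c90cc5bdffd8d000b16998c59bd99ed62ff9f8b4d18f85aa4c5a615debff37958e03e45058b054349effeb64833dcec3805dd66400b7fcd29d488558a7c1f1bb1e74ffabd3f37729a82a412141cdfff371bc9e8a3f904ae1527443fe4d401e550512b054aee72d7fd02b62612dd06c370f82a59ff974bc361a8ac7e00141b9efff52344b434198c8a85818803fe3d148c0d269178b85a00167fc00000000000001f85c2c15))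
noncomputable def tJ : Tr := (.leaf (nat_lit 0x60101b65245000002007661b804c0556006060111a0504507056a040054060151c6444507005c053007070509440304050033390502040020259130000402000001960101a0020304000003a1300200400020a0030000020a0311030000202a0300000119121002000000009100101000090008888880000))
noncomputable def tQ : Tr := (.leaf (nat_lit 0x0))
noncomputable def tR : TC.WTr := (.node r0 r1)
def hl : List ℕ := [4, 5, 6, 7, 7, 6, 8, 9, 9, 8]
def B : List (List ℕ) := [[0, 1], [1, 0], [2, 3], [3, 2], [4, 4], [5, 5], [6, 7], [7, 6], [8, 9], [9, 8], [8, 8, 8], [6, 6, 6], [5, 7, 9], [4, 5, 4, 5], [4, 5, 4, 5], [4, 6, 4, 6, 4, 6], [4, 6, 4, 7, 4, 6, 4, 7], [4, 7, 4, 7, 4, 7], [5, 6, 5, 6, 5, 6], [5, 6, 5, 7, 5, 6, 5, 7], [5, 7, 5, 7, 5, 7], [4, 9, 7, 4, 6, 8], [0, 0, 0, 0, 0], [2, 2, 2, 2], [3, 3, 4], [3, 1, 2, 2, 0, 5], [1, 3, 1, 1, 7], [0, 2, 0, 2, 0, 2, 0, 2, 0, 2], [0, 2, 1, 3, 0, 2, 1, 3, 0, 2,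 1, 3], [0, 3, 0, 3, 0, 3, 0, 3, 0, 3], [0, 8, 1, 7, 4], [2, 5, 3, 5, 4], [0, 7, 3, 0, 7, 5], [2, 6, 3, 6, 3, 6, 4], [2, 7, 3, 7, 3, 7, 4], [2, 6, 8, 3, 9, 4, 7, 4]]
def subs : List (List ℕ) := [[4], [5], [6], [7], [8], [9]]
def ex : List (List ℕ) := []
def inv (x : ℕ) : ℕ := [1, 0, 3, 2, 4, 5, 7, 6, 9, 8].getD x 0
noncomputable def rS : ℕ → ℕ := rowOf tS (nat_lit 7) (nat_lit 127) (nat_lit 99) (nat_lit 633825300114114700748351602687)
noncomputable def rJ : ℕ → ℕ := rowOf tJ (nat_lit 7) (nat_lit 127) (nat_lit 48) (nat_lit 281474976710655)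
noncomputable def C : TC.Cfg where
  S := look rS (nat_lit 9) (nat_lit 511)
  J := look rJ (nat_lit 4) (nat_lit 15)
  Q := lookQ tQ (nat_lit 7) (nat_lit 1) (nat_lit 1)
  R := tR.get
  hl := fun x => hl.contains x
  n := (nat_lit 20)
  M := (nat_lit 20)
  top := (nat_lit 460)
  nl := (nat_lit 10)
  need := (nat_lit 10)
  nr := (nat_lit 8)
theorem k0 : TC.chkRange C 0 1 = true := by decide +kernel
theorem rows0 : ∀ c < (0 + 1) * 64, c < C.M → TC.chkRow C c = true :=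
  TC.rows_step (TC.rows_zero C) k0
theorem main {G : Type*} [Group G] (g : ℕ → G) (hB : ∀ r ∈ B, ev g r = 1) (H : Subgroup G)
    (hH : ∀ w ∈ subs, ev g w ∈ H) :
    H.relIndex (Subgroup.closure (g '' {x | x < 10})) ≠ 0 ∧
      H.relIndex (Subgroup.closure (g '' {x | x < 10})) ≤ 20 :=
  TC.index_le C B subs ex inv hl tR.hint rfl (by decide +kernel) (by decide +kernel)
    (TC.rows_done rows0 (by decide +kernel)) g hB H hH
end H0.TCM222
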